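import Groth.Agent.Pic13.H949.HomAlg
import Groth.Agent.S0389
import Mathlib.RingTheory.FiniteType
import Mathlib.RingTheory.Noetherian.Basic

/-!
# Generic base change for `Hom_B(M, N)`

`A` a domain, `B` a finite type `A`-algebra, Noetherian, `M`, `N` finite `B`-modules: there is
`a ≠ 0` in `A` such that for every `A`-algebra `K` in which `a` is invertible,
`K ⊗_A Hom_B(M, N) ≃ Hom_B(M, K ⊗_A N)`.
-/

set_option autoImplicit false
set_option linter.style.haveILetI false
universe u

open TensorProduct

namespace Groth.Agent.Pic13.H949.HomGen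

open Groth.Agent.Pic13.H949.HomAlg

variable (A B : Type u) [CommRing A] [CommRing B] [Algebra A B]
  (M N : Type u) [AddCommGroup M] [Module B M] [AddCommGroup N] [Module B N] [Module A N]
  [IsScalarTower A B N]

/-- `K ⊗_A Hom_B(M, N) → Hom_B(M, K ⊗_A N)` is bijective for `A`-algebras `K` in which `a` is
invertible. -/
def HomGood (a : A) : Prop :=
  ∀ (K : Type u) [CommRing K] [Algebra A K], IsUnit (algebraMap A K a) →
    (∀ z : K ⊗[A] (M →ₗ[B] N), (∀ x, val z x = 0) → z = 0) ∧
    (∀ φ : M → K ⊗[A] N, (∀ x y, φ (x + y) = φ x + φ y) → (∀ (b : B) x, φ (b • x) = mulR K N b (φ x)) →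
      ∃ z : K ⊗[A] (M →ₗ[B] N), ∀ x, val z x = φ x)

variable {A B M N}

theorem HomGood.mono {a a' : A} (h : HomGood A B M N a) (hd : a ∣ a') : HomGood A B M N a' := by
  intro K _ _ hu
  obtain ⟨c, rfl⟩ := hd
  rw [map_mul] at hu
  exact h K (isUnit_of_mul_isUnit_left hu)

theorem flat_away_of_dvd {a a' : A} (hd : a ∣ a') (X : Type u) [AddCommGroup X] [Module A X]
    (h : Module.Flat (Localization.Away a) (Localization.Away a ⊗[A] X)) :
    Module.Flat (Localization.Away a') (Localization.Away a' ⊗[A] X) := by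
  obtain ⟨c, rfl⟩ := hd
  letI : Algebra (Localization.Away a) (Localization.Away (a * c)) :=
    (IsLocalization.Away.lift (S := Localization.Away a) a (g := algebraMap A (Localization.Away (a * c)))
      (by
        have := IsLocalization.Away.algebraMap_isUnit (S := Localization.Away (a * c)) (a * c)
        rw [map_mul] at this
        exact isUnit_of_mul_isUnit_left this)).toAlgebra
  haveI : IsScalarTower A (Localization.Away a) (Localization.Away (a * c)) :=
    IsScalarTower.of_algebraMap_eq fun x => (IsLocalization.Away.lift_eq _ _ _).symm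
  have h1 : Module.Flat (Localization.Away (a * c))
    (Localization.Away (a * c) ⊗[Localization.Away a] (Localization.Away a ⊗[A] X)) := inferInstance
  exact Module.Flat.of_linearEquiv
    (AlgebraTensorModule.cancelBaseChange A (Localization.Away a) (Localization.Away (a * c))
      (Localization.Away (a * c)) X).symm

theorem exists_cok {n m : ℕ} (r : Fin m → Fin n → B) [Module.Finite B N] :
    ∃ (C : Type u) (_ : AddCommGroup C) (_ : Module B C) (_ : Module A C) (_ : IsScalarTower A B C)
      (π : (Fin m → N) →ₗ[B] C), Module.Finite B C ∧ Function.Surjective π ∧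
      Function.Exact (dmap r : (Fin n → N) →ₗ[B] (Fin m → N)) π := by
  let R : Submodule B (Fin m → N) := LinearMap.range (dmap r : (Fin n → N) →ₗ[B] (Fin m → N))
  refine ⟨(Fin m → N) ⧸ R, inferInstance, inferInstance, inferInstance, inferInstance, R.mkQ, inferInstance,
    Submodule.mkQ_surjective _, ?_⟩
  intro x
  rw [Submodule.mkQ_apply, Submodule.Quotient.mk_eq_zero]
  rfl

/-- Generic base change for `Hom`. -/
theorem exists_homGood [IsDomain A] [IsNoetherianRing B] [Algebra.FiniteType A B] [Module.Finite B M]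
    [Module.Finite B N] : ∃ a : A, a ≠ 0 ∧ HomGood A B M N a := by
  classical
  obtain ⟨n, g, hg⟩ := Module.Finite.exists_fin (R := B) (M := M)
  let f : (Fin n → B) →ₗ[B] M := Fintype.linearCombination B g
  obtain ⟨m, r, hr⟩ := Submodule.fg_iff_exists_fin_generating_family.mp
    (IsNoetherian.noetherian (LinearMap.ker f))
  have hr' : ∀ b : Fin n → B, (∑ i, b i • g i = 0) ↔ b ∈ Submodule.span B (Set.range r) := by
    intro b
    rw [hr, LinearMap.mem_ker]
    rfl
  obtain ⟨C, _, _, _, _, π₀, _, hπ₀, hex₀⟩ := exists_cok (A := A) (N := N) r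
  let π : (Fin m → N) →ₗ[A] C := π₀.restrictScalars A
  have hπ : Function.Surjective π := hπ₀
  have hex : Function.Exact (dA A N r) π := hex₀
  obtain ⟨a₁, h₁, hN, -⟩ := Groth.Agent.S0389.result (R := A) (S := B) (M := N)
  obtain ⟨a₂, h₂, hC, -⟩ := Groth.Agent.S0389.result (R := A) (S := B) (M := C)
  refine ⟨a₁ * a₂, mul_ne_zero h₁ h₂, ?_⟩
  have hN' : Module.Flat (Localization.Away (a₁ * a₂)) (Localization.Away (a₁ * a₂) ⊗[A] N) :=
    flat_away_of_dvd (Dvd.intro _ rfl) N inferInstance
  have hC' : Module.Flat (Localization.Away (a₁ * a₂)) (Localization.Away (a₁ * a₂) ⊗[A] C) :=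
    flat_away_of_dvd (Dvd.intro_left _ rfl) C inferInstance
  have hfl : Module.Flat A (Localization.Away (a₁ * a₂)) := IsLocalization.flat _ (Submonoid.powers (a₁ * a₂))
  intro K _ _ hu
  letI : Algebra (Localization.Away (a₁ * a₂)) K :=
    (IsLocalization.Away.lift (S := Localization.Away (a₁ * a₂)) (a₁ * a₂) (g := algebraMap A K) hu).toAlgebra
  haveI : IsScalarTower A (Localization.Away (a₁ * a₂)) K :=
    IsScalarTower.of_algebraMap_eq fun x => (IsLocalization.Away.lift_eq _ _ _).symm
  exact ⟨fun z hz => eq_zero_of_val (A₁ := Localization.Away (a₁ * a₂)) g r hg hr' π hπ hex hN' hC' z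
      fun i => hz _,
    fun φ h1 h2 => exists_val (A₁ := Localization.Away (a₁ * a₂)) g r hg hr' π hπ hex hC' φ h1 h2⟩

end Groth.Agent.Pic13.H949.HomGen
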