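import Groth.Agent.Ega3B.SecLift
import Groth.Agent.Fga.FSGeo
import Groth.Agent.S0389
import Groth.Agent.CohqB.FiniteType2
import Groth.Agent.Pic13.H949.HomGen

/-!
# Generic flatness of a coherent module over a domain

`A` a Noetherian domain, `X` of finite type over `Spec A`, `N` coherent on `X`: there is `a ≠ 0` in
`A` such that the base change of `N` to every `A`-algebra in which `a` is invertible is flat.
-/

set_option autoImplicit false
set_option linter.style.haveILetI false
universe u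

open CategoryTheory CategoryTheory.Limits AlgebraicGeometry Opposite TensorProduct TopologicalSpace

namespace Groth.Agent.Pic13.H949.GenFlat

open Groth.Agent.Ega3B Groth.Agent.Ega3B.SecLift Groth.Agent.VarietyB Groth.Agent.Ega3B.TensorASec
  Groth.Agent.Ega3B.EqzSections

variable {A : Type u} [CommRing A] {X : Scheme.{u}} [X.Over (Spec (CommRingCat.of A))]

theorem exists_finite_cover (X : Scheme.{u}) [CompactSpace X] :
    ∃ (n : ℕ) (U : Fin n → X.Opens), (⨆ i, U i = ⊤) ∧ ∀ i, IsAffineOpen (U i) := by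
  obtain ⟨I, hI, he⟩ := (isCompact_iff_finite_and_eq_biUnion_affineOpens (U := (⊤ : X.Opens))).mp
    isCompact_univ
  have := hI.to_subtype
  obtain ⟨n, ⟨e⟩⟩ := Finite.exists_equiv_fin I
  refine ⟨n, fun i => (e.symm i).1.1, ?_, fun i => (e.symm i).1.2⟩
  rw [he, ← iSup_subtype'']
  exact e.symm.iSup_comp (g := fun i : I => (i.1.1 : X.Opens))

theorem finiteType_algSec [LocallyOfFiniteType (X ↘ Spec (CommRingCat.of A))] {V : X.Opens}
    (hV : IsAffineOpen V) : (algSec A V).FiniteType := by
  have h1 := (X ↘ Spec (CommRingCat.of A)).finiteType_appLE (isAffineOpen_top _) hV le_top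
  exact h1.comp (RingHom.FiniteType.of_surjective _
    (ConcreteCategory.bijective_of_isIso (Scheme.ΓSpecIso (CommRingCat.of A)).inv).2)

section Kap

variable {A₁ : Type u} [CommRing A₁] [Algebra A A₁] {X₁ : Scheme.{u}} {g : X₁ ⟶ X}
  {q : X₁ ⟶ Spec (CommRingCat.of A₁)}
  (H : IsPullback g q (X ↘ Spec (CommRingCat.of A)) (Spec.map (CommRingCat.ofHom (algebraMap A A₁))))
  (N : X.Modules)

theorem kap_smul_K (V : X.Opens) (c : A₁) (x : A₁ ⊗[A] SecM A N V) :
    kap H N V (c • x) = secMap q (g ⁻¹ᵁ V) c • kap H N V x := by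
  induction x using TensorProduct.induction_on with
  | zero => simp only [smul_zero, map_zero]
  | add x y hx hy => simp only [map_add, smul_add, hx, hy]
  | tmul k n =>
    obtain ⟨n, rfl⟩ := (toM A N V).surjective n
    rw [TensorProduct.smul_tmul', kap_tmul, kap_tmul, smul_eq_mul, map_mul, mul_smul]

end Kap

/-- `Γ(N, V)` as a `Γ(X, V)`-module. -/
noncomputable instance modO (N : X.Modules) (V : X.Opens) : Module Γ(X, V) (SecM A N V) :=
  inferInstanceAs (Module Γ(X, V) Γ(N, V))

/-- A module which is flat after inverting `a` is flat after base change to algebras inverting `a`. -/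
theorem flat_of_isUnit {a : A} {Q : Type u} [AddCommGroup Q] [Module A Q]
    (h : Module.Flat (Localization.Away a) (Localization.Away a ⊗[A] Q)) (A₁ : Type u) [CommRing A₁]
    [Algebra A A₁] (hu : IsUnit (algebraMap A A₁ a)) : Module.Flat A₁ (A₁ ⊗[A] Q) := by
  letI : Algebra (Localization.Away a) A₁ :=
    (IsLocalization.Away.lift (S := Localization.Away a) a (g := algebraMap A A₁) hu).toAlgebra
  haveI : IsScalarTower A (Localization.Away a) A₁ :=
    IsScalarTower.of_algebraMap_eq fun x => (IsLocalization.Away.lift_eq _ _ _).symm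
  have h1 : Module.Flat A₁ (A₁ ⊗[Localization.Away a] (Localization.Away a ⊗[A] Q)) := inferInstance
  exact Module.Flat.of_linearEquiv
    (AlgebraTensorModule.cancelBaseChange A (Localization.Away a) A₁ A₁ Q).symm

theorem exists_flat_sections [IsDomain A] [LocallyOfFiniteType (X ↘ Spec (CommRingCat.of A))]
    (N : X.Modules) (hN : Coh.IsCoh N) {V : X.Opens} (hV : IsAffineOpen V) :
    ∃ a : A, a ≠ 0 ∧ ∀ (A₁ : Type u) [CommRing A₁] [Algebra A A₁], IsUnit (algebraMap A A₁ a) →
      Module.Flat A₁ (A₁ ⊗[A] SecM A N V) := by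
  letI : Algebra A Γ(X, V) := (algSec A V).toAlgebra
  haveI : IsScalarTower A Γ(X, V) (SecM A N V) := IsScalarTower.of_algebraMap_smul fun _ _ => rfl
  haveI : Algebra.FiniteType A Γ(X, V) := finiteType_algSec hV
  haveI : Coh.IsQCoh N := hN.1
  haveI : Module.Finite Γ(X, V) (SecM A N V) := CohqB.FiniteType2.finite_sections_of_isFT N hN.2 hV
  obtain ⟨a, ha, hfree, -⟩ := Groth.Agent.S0389.result (R := A) (S := Γ(X, V)) (M := SecM A N V)
  exact ⟨a, ha, fun A₁ _ _ hu => flat_of_isUnit (Module.Flat.of_free (R := Localization.Away a)) A₁ hu⟩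

/-- Generic flatness. -/
theorem exists_flat [IsDomain A] [LocallyOfFiniteType (X ↘ Spec (CommRingCat.of A))] [CompactSpace X]
    (N : X.Modules) (hN : Coh.IsCoh N) :
    ∃ a : A, a ≠ 0 ∧ ∀ (A₁ : Type u) [CommRing A₁] [Algebra A A₁], IsUnit (algebraMap A A₁ a) →
      ∀ {X₁ : Scheme.{u}} {g : X₁ ⟶ X} {q : X₁ ⟶ Spec (CommRingCat.of A₁)}
        (_ : IsPullback g q (X ↘ Spec (CommRingCat.of A)) (Spec.map (CommRingCat.ofHom (algebraMap A A₁)))),
        FlatMod.IsFlatOver q ((Scheme.Modules.pullback g).obj N) := by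
  obtain ⟨n, U, hcov, hU⟩ := exists_finite_cover X
  choose a ha hfl using fun i => exists_flat_sections (A := A) N hN (hU i)
  refine ⟨∏ i, a i, Finset.prod_ne_zero_iff.mpr fun i _ => ha i, ?_⟩
  intro A₁ _ _ hu X₁ g q H
  rw [Fga.FSGeo.isFlatOver_iff (I := Fin n) q (PullSec.isQCoh_pullback g N hN.1) (fun i => g ⁻¹ᵁ U i) ?_ ?_]
  · intro i
    have hui : IsUnit (algebraMap A A₁ (a i)) := by
      rw [← Finset.mul_prod_erase Finset.univ a (Finset.mem_univ i), map_mul] at hu
      exact isUnit_of_mul_isUnit_left hu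
    letI := Module.compHom Γ((Scheme.Modules.pullback g).obj N, g ⁻¹ᵁ U i) (Fga.QTDefs.coeff q (g ⁻¹ᵁ U i))
    have hl : ∀ (c : A₁) (x : A₁ ⊗[A] SecM A N (U i)), kap H N (U i) (c • x) = c • kap H N (U i) x := by
      intro c x
      rw [kap_smul_K]
      rfl
    let e : (A₁ ⊗[A] SecM A N (U i)) ≃ₗ[A₁] Γ((Scheme.Modules.pullback g).obj N, g ⁻¹ᵁ U i) :=
      { AddEquiv.ofBijective (kap H N (U i)) (kap_bijective H N hN.1 (hU i)) with
        map_smul' := hl }
    have := hfl i A₁ hui
    exact Module.Flat.of_linearEquiv e.symm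
  · intro i
    exact FlatH0.isAffineOpen_pull H (US := ⊤) (UT := ⊤) le_top (UX := U i) le_top
      (by simp) (isAffineOpen_top _) (isAffineOpen_top _) (hU i)
  · rw [← Scheme.Hom.preimage_iSup, hcov]
    rfl

end Groth.Agent.Pic13.H949.GenFlat
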