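import Groth.Agent.Pic13.H138.AlgEquiv

/-!
# `Pic^τ / Pic^0` is finite: reduction to a finiteness statement in `Pic X`

`tauFinite_of_finset`: if the classes in `tau0 k X` are covered by finitely many translates of
`alg0 k X`, the statement of the milestone holds for `X`.
-/

set_option autoImplicit false
universe u

open CategoryTheory CategoryTheory.Limits AlgebraicGeometry

namespace Groth.Agent.Pic13.H949.Glue

open Groth.Agent.Grpsch.PicGrp Groth.Agent.Pic13.H138.AlgEquiv

variable (k : Type u) [Field k] [IsAlgClosed k] (X : Scheme.{u}) [X.Over (Spec (CommRingCat.of k))]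

/-- The conclusion of the finiteness of `Pic^τ / Pic^0` from finitely many representatives in `Pic X`. -/
theorem tauFinite_of_finset (S : Finset (Pic X))
    (hS : ∀ a ∈ tau0 k X, ∃ s ∈ S, AlgEq k X a s) :
    ∃ (q : ℕ) (M : Fin q → X.Modules), ∀ L : X.Modules, PicF.IsInvertible L → Pic13.IsTauEquivZero k X L →
      ∃ (j : Fin q) (N : X.Modules), PicF.IsInvertible N ∧ Pic13.IsAlgEquivZero k X N ∧
        Nonempty (L ≅ CohB1.tensorMod (M j) N) := by
  classical
  choose F hF hFm using fun c : Pic X => exists_mk c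
  refine ⟨S.card, fun j => F (S.equivFin.symm j : Pic X), fun L hL hτ => ?_⟩
  obtain ⟨s, hs, hsa⟩ := hS _ ((isTauEquivZero_iff_mem hL).mp hτ)
  obtain ⟨N, hN, hNe⟩ := exists_mk (s⁻¹ * mk L hL)
  refine ⟨S.equivFin ⟨s, hs⟩, N, hN, ?_, ?_⟩
  · rw [isAlgEquivZero_iff_mem hN, ← hNe, mul_comm]
    exact algEq_iff_mem.mp hsa
  · have h1 : mk L hL = s * mk N hN := by rw [← hNe, mul_inv_cancel_left]
    have h2 : (S.equivFin.symm (S.equivFin ⟨s, hs⟩) : Pic X) = s := by
      rw [Equiv.symm_apply_apply]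
    show Nonempty (L ≅ CohB1.tensorMod (F (S.equivFin.symm (S.equivFin ⟨s, hs⟩) : Pic X)) N)
    rw [h2]
    have h3 : mk L hL = mk (F s) (hF s) * mk N hN := by rw [← hFm s]; exact h1
    rw [mk_mul_mk] at h3
    exact (mk_eq_iff _ _).mp h3

end Groth.Agent.Pic13.H949.Glue
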