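import Mathlib.RingTheory.Flat.Equalizer
import Mathlib.RingTheory.Flat.Localization
import Mathlib.LinearAlgebra.TensorProduct.Pi
import Mathlib.RingTheory.TensorProduct.Maps
import Mathlib.LinearAlgebra.TensorProduct.Tower

/-!
# `P ⊗_A Hom_B(M, N) → Hom_B(M, P ⊗_A N)` when a cokernel is generically flat

`A → B`, `M` a `B`-module with a finite presentation `rels`, `gens`; `N` a `B`-module; `A₁` a flat
`A`-algebra such that `A₁ ⊗ N` and `A₁ ⊗ coker (N^n → N^m)` are `A₁`-flat.  For every `A₁`-module
`P`:

* `eval_injective`: `z ∈ P ⊗_A Hom_B(M, N)` with zero values is zero;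
* `exists_eval`: every `B`-linear map `M → P ⊗_A N` is the map of values of some `z`.
-/

set_option autoImplicit false
universe u

open TensorProduct

namespace Groth.Agent.Pic13.H949.HomAlg

section Inj

variable {A A₁ : Type u} [CommRing A] [CommRing A₁] [Algebra A A₁] [Module.Flat A A₁]
  {X Y C P : Type u} [AddCommGroup X] [Module A X] [AddCommGroup Y] [Module A Y]
  [AddCommGroup C] [Module A C] [AddCommGroup P] [Module A P] [Module A₁ P] [IsScalarTower A A₁ P]

/-- Injectivity of `P ⊗ f` when the cokernel of `f` becomes flat over `A₁` and `P` is an `A₁`-module. -/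
theorem lTensor_injective (f : X →ₗ[A] Y) (g : Y →ₗ[A] C) (hf : Function.Injective f)
    (hg : Function.Surjective g) (h : Function.Exact f g) (hC : Module.Flat A₁ (A₁ ⊗[A] C)) :
    Function.Injective (f.lTensor P) := by
  have h1 : Function.Injective (f.baseChange A₁) :=
    Module.Flat.lTensor_preserves_injective_linearMap (M := A₁) f hf
  have h2 : Function.Surjective (g.baseChange A₁) := LinearMap.lTensor_surjective A₁ hg
  have h3 : Function.Exact (f.baseChange A₁) (g.baseChange A₁) := lTensor_exact A₁ h hg
  have h4 := LinearMap.lTensor_injective_of_exact_of_flat (g.baseChange A₁) h2 (f.baseChange A₁) h1 h3 P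
  have key : ∀ z : P ⊗[A₁] (A₁ ⊗[A] X),
      f.lTensor P (AlgebraTensorModule.cancelBaseChange A A₁ A₁ P X z) =
        AlgebraTensorModule.cancelBaseChange A A₁ A₁ P Y ((f.baseChange A₁).lTensor P z) := by
    intro z
    induction z with
    | zero => simp only [map_zero]
    | add x y hx hy => simp only [map_add, hx, hy]
    | tmul p w =>
      induction w with
      | zero => simp only [tmul_zero, map_zero]
      | add x y hx hy => simp only [tmul_add, map_add, hx, hy]
      | tmul a x =>
        simp only [AlgebraTensorModule.cancelBaseChange_tmul, LinearMap.lTensor_tmul,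
          LinearMap.baseChange_tmul]
  intro x y hxy
  obtain ⟨x, rfl⟩ := (AlgebraTensorModule.cancelBaseChange A A₁ A₁ P X).surjective x
  obtain ⟨y, rfl⟩ := (AlgebraTensorModule.cancelBaseChange A A₁ A₁ P X).surjective y
  rw [key, key] at hxy
  exact congrArg _ (h4 ((AlgebraTensorModule.cancelBaseChange A A₁ A₁ P Y).injective hxy))

end Inj

section Hom

variable {A B : Type u} [CommRing A] [CommRing B] [Algebra A B]
  {M N : Type u} [AddCommGroup M] [Module B M] [AddCommGroup N] [Module B N] [Module A N]
  [IsScalarTower A B N]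

variable (A) in
/-- Evaluation at `m`, an `A`-linear map `Hom_B(M, N) → N`. -/
def evA (m : M) : (M →ₗ[B] N) →ₗ[A] N where
  toFun h := h m
  map_add' _ _ := rfl
  map_smul' _ _ := rfl

theorem evA_apply (m : M) (h : M →ₗ[B] N) : evA A m h = h m := rfl

/-- The map `N^n → N^m` given by a matrix over `B`. -/
def dmap {n m : ℕ} (r : Fin m → Fin n → B) : (Fin n → N) →ₗ[B] (Fin m → N) where
  toFun x j := ∑ i, r j i • x i
  map_add' x y := by ext j; simp [Finset.sum_add_distrib]
  map_smul' b x := by
    ext j
    simp only [Pi.smul_apply, RingHom.id_apply, Finset.smul_sum]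
    exact Finset.sum_congr rfl fun i _ => smul_comm _ _ _

variable {n m : ℕ} (g : Fin n → M) (r : Fin m → Fin n → B)

/-- `Hom_B(M, N) → N^n`, values on the generators, `A`-linear. -/
def eps : (M →ₗ[B] N) →ₗ[A] (Fin n → N) where
  toFun h i := h (g i)
  map_add' _ _ := rfl
  map_smul' _ _ := rfl

variable (hg : Submodule.span B (Set.range g) = ⊤)
  (hr : ∀ b : Fin n → B, (∑ i, b i • g i = 0) ↔ b ∈ Submodule.span B (Set.range r))

include hg in
theorem exists_coeff (x : M) : ∃ b : Fin n → B, ∑ i, b i • g i = x := by
  have : x ∈ Submodule.span B (Set.range g) := hg ▸ Submodule.mem_top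
  exact (Submodule.mem_span_range_iff_exists_fun B).mp this

include hg in
theorem eps_injective : Function.Injective (eps (A := A) (B := B) (N := N) g) := by
  intro h h' hh
  ext x
  obtain ⟨b, rfl⟩ := exists_coeff g hg x
  simp only [map_sum, map_smul]
  exact Finset.sum_congr rfl fun i _ => congrArg _ (congrFun hh i)

include hg hr in
theorem exact_eps : Function.Exact (eps (A := A) (B := B) (N := N) g) ((dmap r : (Fin n → N) →ₗ[B] _).restrictScalars A) := by
  intro x
  constructor
  · intro hx
    have hx' : ∀ b ∈ Submodule.span B (Set.range r), ∑ i, b i • x i = 0 := by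
      intro b hb
      induction hb using Submodule.span_induction with
      | mem y hy =>
        obtain ⟨j, rfl⟩ := hy
        exact congrFun hx j
      | zero => simp
      | add y z _ _ h1 h2 => simp only [Pi.add_apply, add_smul, Finset.sum_add_distrib, h1, h2, add_zero]
      | smul c y _ h1 =>
        simp only [Pi.smul_apply, smul_eq_mul, mul_smul, ← Finset.smul_sum, h1, smul_zero]
    have hwd : ∀ b b' : Fin n → B, ∑ i, b i • g i = ∑ i, b' i • g i →
        ∑ i, b i • x i = ∑ i, b' i • x i := by
      intro b b' h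
      have h1 : ∑ i, (b - b') i • g i = 0 := by
        simp only [Pi.sub_apply, sub_smul, Finset.sum_sub_distrib, h, sub_self]
      have h2 := hx' _ ((hr _).mp h1)
      simp only [Pi.sub_apply, sub_smul, Finset.sum_sub_distrib] at h2
      exact sub_eq_zero.mp h2
    choose c hc using exists_coeff g hg
    refine ⟨{ toFun := fun y => ∑ i, c y i • x i
              map_add' := fun y z => ?_
              map_smul' := fun b y => ?_ }, ?_⟩
    · rw [← Finset.sum_add_distrib]
      simp only [← add_smul]
      exact hwd _ _ (by simp only [add_smul, Finset.sum_add_distrib, hc])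
    · rw [RingHom.id_apply, Finset.smul_sum]
      simp only [smul_smul]
      exact hwd _ _ (by simp only [mul_smul, ← Finset.smul_sum, hc])
    · ext j
      change ∑ i, c (g j) i • x i = x j
      have h3 := hwd (c (g j)) (Pi.single j 1) (by
        rw [hc]
        rw [Finset.sum_eq_single j (fun i _ hij => by rw [Pi.single_eq_of_ne hij, zero_smul])
          (fun h => absurd (Finset.mem_univ j) h), Pi.single_eq_same, one_smul])
      rw [h3, Finset.sum_eq_single j (fun i _ hij => by rw [Pi.single_eq_of_ne hij, zero_smul])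
          (fun h => absurd (Finset.mem_univ j) h), Pi.single_eq_same, one_smul]
  · rintro ⟨h, rfl⟩
    ext j
    change ∑ i, r j i • h (g i) = 0
    simp only [← map_smul, ← map_sum]
    rw [(hr (r j)).mpr (Submodule.subset_span ⟨j, rfl⟩), map_zero]

end Hom

section Flat

/-- The kernel of a surjection between flat modules is flat. -/
theorem flat_of_exact {A : Type u} [CommRing A] {M N P : Type u} [AddCommGroup M] [Module A M]
    [AddCommGroup N] [Module A N] [AddCommGroup P] [Module A P] (f : M →ₗ[A] N) (g : N →ₗ[A] P)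
    (hf : Function.Injective f) (hg : Function.Surjective g) (h : Function.Exact f g)
    (hN : Module.Flat A N) (hP : Module.Flat A P) : Module.Flat A M := by
  rw [Module.Flat.iff_lTensor_preserves_injective_linearMap]
  intro X Y _ _ _ _ φ hφ
  have h1 : Function.Injective (f.rTensor X) := by
    have := LinearMap.lTensor_injective_of_exact_of_flat g hg f hf h X
    rwa [LinearMap.lTensor_inj_iff_rTensor_inj] at this
  have h2 : Function.Injective ((f.rTensor Y) ∘ₗ (φ.lTensor M)) := by
    rw [LinearMap.rTensor_comp_lTensor, ← LinearMap.lTensor_comp_rTensor]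
    exact (Module.Flat.lTensor_preserves_injective_linearMap φ hφ).comp h1
  exact Function.Injective.of_comp h2

variable {A B A₁ : Type u} [CommRing A] [CommRing B] [Algebra A B] [CommRing A₁] [Algebra A A₁]
  {M N P : Type u} [AddCommGroup M] [Module B M] [AddCommGroup N] [Module B N] [Module A N]
  [IsScalarTower A B N] [AddCommGroup P] [Module A P] [Module A₁ P] [IsScalarTower A A₁ P]
  {n m : ℕ} (g : Fin n → M) (r : Fin m → Fin n → B)
  (hg : Submodule.span B (Set.range g) = ⊤)
  (hr : ∀ b : Fin n → B, (∑ i, b i • g i = 0) ↔ b ∈ Submodule.span B (Set.range r))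

/-- The `A`-linear map `N^n → N^m`. -/
def dA (A : Type u) [CommRing A] {B : Type u} [CommRing B] [Algebra A B] (N : Type u)
    [AddCommGroup N] [Module B N] [Module A N] [IsScalarTower A B N] {n m : ℕ}
    (r : Fin m → Fin n → B) : (Fin n → N) →ₗ[A] (Fin m → N) :=
  (dmap r : (Fin n → N) →ₗ[B] (Fin m → N)).restrictScalars A

theorem flat_pi {A : Type u} [CommRing A] (N : Type u) [AddCommGroup N] [Module A N]
    [Module.Flat A N] (m : ℕ) : Module.Flat A (Fin m → N) :=
  Module.Flat.of_linearEquiv (DirectSum.linearEquivFunOnFintype A (Fin m) (fun _ => N)).symm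

theorem flat_baseChange_pi (hN : Module.Flat A₁ (A₁ ⊗[A] N)) (m : ℕ) :
    Module.Flat A₁ (A₁ ⊗[A] (Fin m → N)) := by
  have := flat_pi (A := A₁) (A₁ ⊗[A] N) m
  exact Module.Flat.of_linearEquiv (TensorProduct.piRight A A₁ A₁ (fun _ : Fin m => N))

variable {C : Type u} [AddCommGroup C] [Module A C] (π : (Fin m → N) →ₗ[A] C)
  (hπ : Function.Surjective π) (hex : Function.Exact (dA A N r) π)
  (hN : Module.Flat A₁ (A₁ ⊗[A] N)) (hC : Module.Flat A₁ (A₁ ⊗[A] C))

/-- The image of `N^n → N^m`. -/
abbrev Im : Submodule A (Fin m → N) := LinearMap.range (dA A N r)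

include hex in
theorem exact_subtype : Function.Exact (Im (A := A) (N := N) r).subtype π := by
  intro x
  rw [hex x]
  constructor
  · rintro ⟨y, rfl⟩
    exact ⟨⟨_, ⟨y, rfl⟩⟩, rfl⟩
  · rintro ⟨⟨_, ⟨y, rfl⟩⟩, rfl⟩
    exact ⟨y, rfl⟩

include hπ hex hC in
theorem lTensor_im_injective [Module.Flat A A₁] :
    Function.Injective ((Im (A := A) (N := N) r).subtype.lTensor P) :=
  lTensor_injective (A₁ := A₁) (P := P) (Im (A := A) (N := N) r).subtype π
    (Submodule.subtype_injective _) hπ (exact_subtype r π hex) hC

include hπ hex hN hC in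
theorem flat_im [Module.Flat A A₁] : Module.Flat A₁ (A₁ ⊗[A] Im (A := A) (N := N) r) := by
  have h1 := flat_baseChange_pi (A₁ := A₁) hN m
  exact flat_of_exact ((Im (A := A) (N := N) r).subtype.baseChange A₁) (π.baseChange A₁)
    (Module.Flat.lTensor_preserves_injective_linearMap (M := A₁) _ (Submodule.subtype_injective _))
    (LinearMap.lTensor_surjective A₁ hπ) (lTensor_exact A₁ (exact_subtype r π hex) hπ) h1 hC

include hg hr in
theorem exact_eps_rangeRestrict : Function.Exact (eps (A := A) (B := B) (N := N) g)
    (dA A N r).rangeRestrict := by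
  intro x
  rw [← exact_eps (A := A) (N := N) g r hg hr x, ← Submodule.coe_eq_zero]
  rfl

include hg hr hπ hex hN hC in
theorem lTensor_eps_injective [Module.Flat A A₁] :
    Function.Injective ((eps (A := A) (B := B) (N := N) g).lTensor P) :=
  lTensor_injective (A₁ := A₁) (P := P) (eps (A := A) (B := B) (N := N) g) (dA A N r).rangeRestrict
    (eps_injective g hg) (LinearMap.surjective_rangeRestrict _)
    (exact_eps_rangeRestrict g r hg hr) (flat_im r π hπ hex hN hC)

include hg hr hπ hex hC in
theorem exact_lTensor_eps [Module.Flat A A₁] (y : P ⊗[A] (Fin n → N)) (hy : (dA A N r).lTensor P y = 0) :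
    ∃ z, (eps (A := A) (B := B) (N := N) g).lTensor P z = y := by
  have h1 : (dA A N r) = (Im (A := A) (N := N) r).subtype ∘ₗ (dA A N r).rangeRestrict := rfl
  rw [h1, LinearMap.lTensor_comp, LinearMap.comp_apply] at hy
  have h2 : (dA A N r).rangeRestrict.lTensor P y = 0 :=
    lTensor_im_injective (A₁ := A₁) (P := P) r π hπ hex hC (hy.trans (map_zero _).symm)
  exact (lTensor_exact P (exact_eps_rangeRestrict g r hg hr)
    (LinearMap.surjective_rangeRestrict _) y).mp h2

/-- Multiplication by `b` as an `A`-linear endomorphism of `N`. -/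
def mulA (A : Type u) [CommRing A] {B : Type u} [CommRing B] [Algebra A B] (N : Type u)
    [AddCommGroup N] [Module B N] [Module A N] [IsScalarTower A B N] (b : B) : N →ₗ[A] N where
  toFun x := b • x
  map_add' := smul_add b
  map_smul' a x := by
    rw [RingHom.id_apply, ← algebraMap_smul B a x, ← algebraMap_smul B a (b • x), smul_comm]

/-- Multiplication by `b` on `P ⊗ N`. -/
noncomputable def mulR (P : Type u) [AddCommGroup P] [Module A P] (N : Type u)
    [AddCommGroup N] [Module B N] [Module A N] [IsScalarTower A B N] (b : B) :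
    P ⊗[A] N →ₗ[A] P ⊗[A] N := (mulA A N b).lTensor P

theorem mulR_tmul (b : B) (p : P) (x : N) : mulR (A := A) P N b (p ⊗ₜ x) = p ⊗ₜ (b • x) := rfl

/-- The value at `x` of an element of `P ⊗ Hom_B(M, N)`. -/
noncomputable def val (z : P ⊗[A] (M →ₗ[B] N)) (x : M) : P ⊗[A] N := (evA A x).lTensor P z

theorem val_tmul (p : P) (h : M →ₗ[B] N) (x : M) : val (p ⊗ₜ[A] h) x = p ⊗ₜ h x := rfl

theorem val_add (z w : P ⊗[A] (M →ₗ[B] N)) (x : M) : val (z + w) x = val z x + val w x :=
  map_add _ _ _

theorem val_zero (x : M) : val (0 : P ⊗[A] (M →ₗ[B] N)) x = 0 := map_zero _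

theorem val_add_right (z : P ⊗[A] (M →ₗ[B] N)) (x y : M) : val z (x + y) = val z x + val z y := by
  induction z with
  | zero => simp only [val_zero, add_zero]
  | add z w hz hw => simp only [val_add, hz, hw]; abel
  | tmul p h => simp only [val_tmul, map_add, tmul_add]

theorem val_smul_right (z : P ⊗[A] (M →ₗ[B] N)) (b : B) (x : M) :
    val z (b • x) = mulR P N b (val z x) := by
  induction z with
  | zero => simp only [val_zero, map_zero]
  | add z w hz hw => simp only [val_add, hz, hw, map_add]
  | tmul p h => simp only [val_tmul, map_smul, mulR_tmul]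

theorem val_sum_smul (z : P ⊗[A] (M →ₗ[B] N)) {ι : Type*} (s : Finset ι) (b : ι → B) (x : ι → M) :
    val z (∑ i ∈ s, b i • x i) = ∑ i ∈ s, mulR P N (b i) (val z (x i)) := by
  classical
  induction s using Finset.induction_on with
  | empty =>
    simp only [Finset.sum_empty]
    have := val_add_right z (0 : M) 0
    rw [add_zero] at this
    exact left_eq_add.mp this
  | insert a s ha ih => rw [Finset.sum_insert ha, Finset.sum_insert ha, val_add_right, val_smul_right, ih]

theorem eq_zero_of_proj {n : ℕ} (y : P ⊗[A] (Fin n → N))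
    (h : ∀ i, (LinearMap.proj i : (Fin n → N) →ₗ[A] N).lTensor P y = 0) : y = 0 := by
  have key : ∀ (y : P ⊗[A] (Fin n → N)) i, TensorProduct.piRight A A P (fun _ : Fin n => N) y i =
      (LinearMap.proj i : (Fin n → N) →ₗ[A] N).lTensor P y := by
    intro y i
    induction y with
    | zero => simp only [map_zero, Pi.zero_apply]
    | add x y hx hy => simp only [map_add, Pi.add_apply, hx, hy]
    | tmul p x => rfl
  apply (TensorProduct.piRight A A P (fun _ : Fin n => N)).injective
  rw [map_zero]
  ext i
  rw [key, h]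
  rfl

theorem exists_of_proj {n : ℕ} (x : Fin n → P ⊗[A] N) : ∃ y : P ⊗[A] (Fin n → N),
    ∀ i, (LinearMap.proj i : (Fin n → N) →ₗ[A] N).lTensor P y = x i := by
  have key : ∀ (y : P ⊗[A] (Fin n → N)) i, TensorProduct.piRight A A P (fun _ : Fin n => N) y i =
      (LinearMap.proj i : (Fin n → N) →ₗ[A] N).lTensor P y := by
    intro y i
    induction y with
    | zero => simp only [map_zero, Pi.zero_apply]
    | add x y hx hy => simp only [map_add, Pi.add_apply, hx, hy]
    | tmul p x => rfl
  obtain ⟨y, hy⟩ := (TensorProduct.piRight A A P (fun _ : Fin n => N)).surjective x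
  exact ⟨y, fun i => by rw [← key, hy]⟩

theorem proj_eps (z : P ⊗[A] (M →ₗ[B] N)) (i : Fin n) :
    (LinearMap.proj i : (Fin n → N) →ₗ[A] N).lTensor P
      ((eps (A := A) (B := B) (N := N) g).lTensor P z) = val z (g i) := by
  rw [← LinearMap.comp_apply, ← LinearMap.lTensor_comp]
  rfl

theorem proj_dA (y : P ⊗[A] (Fin n → N)) (j : Fin m) :
    (LinearMap.proj j : (Fin m → N) →ₗ[A] N).lTensor P ((dA A N r).lTensor P y) =
      ∑ i, mulR P N (r j i) ((LinearMap.proj i : (Fin n → N) →ₗ[A] N).lTensor P y) := by
  induction y with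
  | zero => simp only [map_zero, Finset.sum_const_zero]
  | add x y hx hy => simp only [map_add, hx, hy, Finset.sum_add_distrib]
  | tmul p x =>
    simp only [LinearMap.lTensor_tmul, mulR_tmul]
    rw [← TensorProduct.tmul_sum]
    rfl

include hg hr hπ hex hN hC in
/-- An element of `P ⊗ Hom_B(M, N)` with zero values on generators is zero. -/
theorem eq_zero_of_val [Module.Flat A A₁] (z : P ⊗[A] (M →ₗ[B] N)) (h : ∀ i, val z (g i) = 0) :
    z = 0 := by
  apply lTensor_eps_injective (A₁ := A₁) (P := P) g r hg hr π hπ hex hN hC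
  rw [map_zero]
  exact eq_zero_of_proj _ fun i => by rw [proj_eps, h]

include hg hr hπ hex hC in
/-- Every `B`-linear map `M → P ⊗ N` is given by an element of `P ⊗ Hom_B(M, N)`. -/
theorem exists_val [Module.Flat A A₁] (φ : M → P ⊗[A] N) (hadd : ∀ x y, φ (x + y) = φ x + φ y)
    (hsmul : ∀ (b : B) x, φ (b • x) = mulR P N b (φ x)) :
    ∃ z : P ⊗[A] (M →ₗ[B] N), ∀ x, val z x = φ x := by
  have hsum : ∀ (b : Fin n → B), φ (∑ i, b i • g i) = ∑ i, mulR P N (b i) (φ (g i)) := by
    intro b
    have h0 : φ 0 = 0 := by
      have := hadd 0 0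
      rw [add_zero] at this
      exact left_eq_add.mp this
    have : ∀ s : Finset (Fin n), φ (∑ i ∈ s, b i • g i) = ∑ i ∈ s, mulR P N (b i) (φ (g i)) := by
      classical
      intro s
      induction s using Finset.induction_on with
      | empty => simpa using h0
      | insert a s ha ih => rw [Finset.sum_insert ha, Finset.sum_insert ha, hadd, hsmul, ih]
    exact this _
  obtain ⟨y, hy⟩ := exists_of_proj (A := A) fun i => φ (g i)
  have h0 : (dA A N r).lTensor P y = 0 := by
    apply eq_zero_of_proj
    intro j
    rw [proj_dA]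
    simp only [hy]
    rw [← hsum, (hr (r j)).mpr (Submodule.subset_span ⟨j, rfl⟩)]
    have := hadd 0 0
    rw [add_zero] at this
    exact left_eq_add.mp this
  obtain ⟨z, hz⟩ := exact_lTensor_eps (A₁ := A₁) (P := P) g r hg hr π hπ hex hC y h0
  refine ⟨z, fun x => ?_⟩
  obtain ⟨b, rfl⟩ := exists_coeff g hg x
  rw [val_sum_smul, hsum]
  refine Finset.sum_congr rfl fun i _ => ?_
  rw [← proj_eps, hz, hy]

end Flat

end Groth.Agent.Pic13.H949.HomAlg
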