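import Groth.Agent.Pic13.H949.Glue
import Groth.Agent.Pic13.H138.Finite
import Groth.Agent.Pic13.H969.Bridge

/-!
# `Pic^τ / Pic^0` is finite as soon as the family of modules τ-equivalent to zero is bounded
-/

set_option autoImplicit false
universe u

open CategoryTheory CategoryTheory.Limits AlgebraicGeometry

namespace Groth.Agent.Pic13.H949.Of4281

open Groth.Agent.Grpsch.PicGrp Groth.Agent.Pic13.H138.AlgEquiv

variable (k : Type u) [Field k] [IsAlgClosed k] (X : Scheme.{u}) [X.Over (Spec (CommRingCat.of k))]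

theorem of_bounded [IsProper (X ↘ Spec (CommRingCat.of k))]
    (h : Pic13.IsBounded k X (fun L : X.Modules => PicF.IsInvertible L ∧ Pic13.IsTauEquivZero k X L)) :
    ∃ (q : ℕ) (M : Fin q → X.Modules), ∀ L : X.Modules, PicF.IsInvertible L → Pic13.IsTauEquivZero k X L →
      ∃ (j : Fin q) (N : X.Modules), PicF.IsInvertible N ∧ Pic13.IsAlgEquivZero k X N ∧
        Nonempty (L ≅ CohB1.tensorMod (M j) N) := by
  classical
  obtain ⟨s, hs, hsub, hf⟩ := H138.Finite.exists_finite (H969.Bridge.bridge k X _ h)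
  refine Glue.tauFinite_of_finset k X hs.toFinset fun a ha => ?_
  obtain ⟨L, hL, rfl⟩ := exists_mk a
  obtain ⟨b, hb, hba⟩ := hf (mk L hL) ⟨L, hL, ⟨hL, (isTauEquivZero_iff_mem hL).mpr ha⟩, rfl⟩
  exact ⟨b, hs.mem_toFinset.mpr hb, hba.symm⟩

end Groth.Agent.Pic13.H949.Of4281
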