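import Mathlib.RingTheory.Localization.Away.Basic
import Mathlib.RingTheory.TensorProduct.Finite
import Mathlib.LinearAlgebra.TensorProduct.Tower
import Mathlib.Algebra.Module.Projective
import Mathlib.RingTheory.TensorProduct.IsBaseChangeHom

/-!
# Lifting linear maps `Q → K` to `Q → A`, `A → K` surjective, when `Q` is generically projective
-/

set_option autoImplicit false
set_option linter.style.haveILetI false
universe u

open TensorProduct

namespace Groth.Agent.Pic13.H949.SecAlg

variable {A K Q : Type u} [CommRing A] [IsDomain A] [CommRing K] [Algebra A K]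
  [AddCommGroup Q] [Module A Q] [Module.Finite A Q]

/-- A common denominator for a linear map from a finite module to a localization. -/
theorem exists_pow_smul (b : A) (g : Q →ₗ[A] Localization.Away b) :
    ∃ n : ℕ, ∀ q, b ^ n • g q ∈ LinearMap.range (Algebra.linearMap A (Localization.Away b)) := by
  classical
  obtain ⟨s, hs⟩ := Module.Finite.fg_top (R := A) (M := Q)
  have h1 : ∀ q : Q, ∃ n : ℕ, b ^ n • g q ∈ LinearMap.range (Algebra.linearMap A (Localization.Away b)) := by
    intro q
    obtain ⟨n, a, ha⟩ := IsLocalization.Away.surj b (g q)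
    refine ⟨n, a, ?_⟩
    rw [Algebra.linearMap_apply, ← ha, Algebra.smul_def, map_pow, mul_comm]
  choose n hn using h1
  refine ⟨∑ q ∈ s, n q, fun q => ?_⟩
  have hq : q ∈ Submodule.span A (s : Set Q) := hs ▸ Submodule.mem_top
  induction hq using Submodule.span_induction with
  | mem x hx =>
    have h2 : n x ≤ ∑ q ∈ s, n q := Finset.single_le_sum (fun _ _ => Nat.zero_le _) hx
    obtain ⟨c, hc⟩ := Nat.exists_eq_add_of_le h2
    rw [hc, pow_add, mul_comm, mul_smul]
    exact Submodule.smul_mem _ _ (hn x)
  | zero => rw [map_zero, smul_zero]; exact Submodule.zero_mem _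
  | add x y _ _ hx hy => rw [map_add, smul_add]; exact Submodule.add_mem _ hx hy
  | smul a x _ hx => rw [map_smul, smul_comm]; exact Submodule.smul_mem _ _ hx

theorem exists_hom_lift (b : A) (hb : b ≠ 0)
    (hproj : Module.Projective (Localization.Away b) (Localization.Away b ⊗[A] Q))
    (hK : Function.Surjective (algebraMap A K)) (hu : IsUnit (algebraMap A K b)) (h : Q →ₗ[A] K) :
    ∃ h' : Q →ₗ[A] A, (Algebra.linearMap A K) ∘ₗ h' = h := by
  letI : Algebra (Localization.Away b) K :=
    (IsLocalization.Away.lift (S := Localization.Away b) b (g := algebraMap A K) hu).toAlgebra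
  haveI : IsScalarTower A (Localization.Away b) K :=
    IsScalarTower.of_algebraMap_eq fun x => (IsLocalization.Away.lift_eq _ _ _).symm
  have hsurj : Function.Surjective (Algebra.linearMap (Localization.Away b) K) := by
    intro x
    obtain ⟨a, rfl⟩ := hK x
    exact ⟨algebraMap A _ a, (IsScalarTower.algebraMap_apply A (Localization.Away b) K a).symm⟩
  let h1 : Localization.Away b ⊗[A] Q →ₗ[Localization.Away b] K :=
    AlgebraTensorModule.lift (LinearMap.toSpanSingleton (Localization.Away b) (Q →ₗ[A] K) h)
  have h1t : ∀ q, h1 (1 ⊗ₜ q) = h q := fun q => by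
    change ((1 : Localization.Away b) • h) q = h q
    rw [one_smul]
  obtain ⟨h2, hh2⟩ := Module.projective_lifting_property (Algebra.linearMap (Localization.Away b) K) h1 hsurj
  let g : Q →ₗ[A] Localization.Away b :=
    (h2.restrictScalars A) ∘ₗ (TensorProduct.mk A (Localization.Away b) Q 1)
  have hg : ∀ q, algebraMap (Localization.Away b) K (g q) = h q := fun q => by
    rw [← h1t, ← hh2]
    rfl
  obtain ⟨n, hn⟩ := exists_pow_smul b g
  have hinj : Function.Injective (Algebra.linearMap A (Localization.Away b)) :=
    IsLocalization.injective (Localization.Away b) (M := Submonoid.powers b)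
      (powers_le_nonZeroDivisors_of_noZeroDivisors hb)
  let e := LinearEquiv.ofInjective (Algebra.linearMap A (Localization.Away b)) hinj
  let h0 : Q →ₗ[A] A := e.symm.toLinearMap ∘ₗ ((b ^ n • g).codRestrict _ hn)
  have hh0 : ∀ q, algebraMap A (Localization.Away b) (h0 q) = b ^ n • g q := fun q => by
    have := e.apply_symm_apply ((b ^ n • g).codRestrict _ hn q)
    exact congrArg Subtype.val this
  obtain ⟨c, hc⟩ := hK (↑(hu.unit⁻¹) ^ n)
  refine ⟨c • h0, ?_⟩
  ext q
  change algebraMap A K (c * h0 q) = h q
  rw [map_mul, IsScalarTower.algebraMap_apply A (Localization.Away b) K (h0 q), hh0, hc,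
    algebra_compatible_smul (Localization.Away b) (b ^ n) (g q), smul_eq_mul, map_mul, hg,
    ← IsScalarTower.algebraMap_apply A (Localization.Away b) K, map_pow, ← mul_assoc, ← mul_pow]
  rw [IsUnit.val_inv_mul, one_pow, one_mul]

end Groth.Agent.Pic13.H949.SecAlg
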